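import Mathlib
import Groth.Agent.FibreKer.Basic

/-! Flat modules of any size over a local ring with nilpotent maximal ideal. -/

universe u v

open IsLocalRing TensorProduct

namespace Groth.Agent.ArtFlat

variable {A : Type u} [CommRing A] [IsLocalRing A]

local notation "k" => ResidueField A
local notation "𝔪" => maximalIdeal A

variable {M : Type v} [AddCommGroup M] [Module A M]

/-- Nakayama for a nilpotent maximal ideal. -/
theorem eq_top_of_mk (h : IsNilpotent 𝔪) (N : Submodule A M)
    (hN : ∀ x : M, ∃ y ∈ N, (1 : k) ⊗ₜ[A] y = (1 : k) ⊗ₜ[A] x) : N = ⊤ := by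
  obtain ⟨n, hn⟩ := h
  have h1 : N ⊔ 𝔪 • ⊤ = ⊤ := by
    refine top_le_iff.1 fun x _ => ?_
    obtain ⟨y, hy, hxy⟩ := hN x
    rw [← add_sub_cancel y x]
    refine Submodule.add_mem_sup hy ?_
    rw [← LinearMap.ker_tensorProductMk (R := A) (Q := M) (I := 𝔪), LinearMap.mem_ker, map_sub]
    exact sub_eq_zero.2 hxy.symm
  have h2 : ∀ j : ℕ, N ⊔ 𝔪 ^ j • ⊤ = ⊤ := by
    intro j
    induction j with
    | zero => simp
    | succ j ih =>
      refine top_le_iff.1 (ih.ge.trans (sup_le le_sup_left ?_))
      conv_lhs => rw [← h1, Submodule.smul_sup, ← Submodule.mul_smul, ← pow_succ]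
      exact sup_le_sup_right Submodule.smul_le_right _
  have := h2 n
  rwa [hn, Submodule.zero_eq_bot, Submodule.bot_smul, sup_bot_eq] at this

/-- Lifts of a spanning family of the reduction span. -/
theorem span_eq_top (h : IsNilpotent 𝔪) {ι : Type*} (w : ι → M)
    (hw : Submodule.span k (Set.range (TensorProduct.mk A k M 1 ∘ w)) = ⊤) :
    Submodule.span A (Set.range w) = ⊤ := by
  refine eq_top_of_mk h _ fun x => ?_
  have hx : (1 : k) ⊗ₜ[A] x ∈ Submodule.span k (Set.range (TensorProduct.mk A k M 1 ∘ w)) := hw ▸ trivial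
  rw [Finsupp.mem_span_range_iff_exists_finsupp] at hx
  obtain ⟨c, hc⟩ := hx
  choose r hr using fun i => residue_surjective (c i)
  refine ⟨∑ i ∈ c.support, r i • w i,
    sum_mem fun i _ => Submodule.smul_mem _ _ (Submodule.subset_span ⟨i, rfl⟩), ?_⟩
  rw [← hc, TensorProduct.tmul_sum, Finsupp.sum]
  refine Finset.sum_congr rfl fun i _ => ?_
  rw [TensorProduct.tmul_smul, ← hr i, ← ResidueField.algebraMap_eq, algebraMap_smul]
  rfl

theorem free_of_flat (h : IsNilpotent 𝔪) [Module.Flat A M] : Module.Free A M := by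
  let b := Module.Free.chooseBasis k (k ⊗[A] M)
  have hs : Function.Surjective (TensorProduct.mk A k M 1) :=
    TensorProduct.mk_surjective A M k Ideal.Quotient.mk_surjective
  choose w hw using fun i => hs (b i)
  have hb : TensorProduct.mk A k M 1 ∘ w = b := funext hw
  have hli := Module.IsLocalRing.linearIndependent_of_flat w (hb ▸ b.linearIndependent)
  exact Module.Free.of_basis (Module.Basis.mk hli (span_eq_top h w (hb ▸ b.span_eq)).ge)

end Groth.Agent.ArtFlat
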