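import Mathlib.RingTheory.Flat.Tensor
import Mathlib.RingTheory.Artinian.Ring
import Mathlib.RingTheory.HopkinsLevitzki
import Mathlib.RingTheory.Regular.RegularSequence
import Mathlib.LinearAlgebra.TensorProduct.Quotient

/-!
Regular elements on flat modules over an Artinian local ring, and flatness of cokernels of
universally injective endomorphisms.
-/

universe u v

namespace Groth.Agent.ArtFlat

open TensorProduct

variable {A : Type u} [CommRing A]

/-- Balance: for presentations `q : F → N` and `p : P → M` with `P` flat, injectivity of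
`N ⊗ ker p → N ⊗ P` gives injectivity of `ker q ⊗ M → F ⊗ M`. -/
theorem balance_rTensor_injective_of_lTensor_injective {M N P F : Type*} [AddCommGroup M] [Module A M]
    [AddCommGroup N] [Module A N] [AddCommGroup P] [Module A P] [AddCommGroup F] [Module A F]
    [Module.Flat A P] (p : P →ₗ[A] M) (hp : Function.Surjective p) (q : F →ₗ[A] N)
    (hq : Function.Surjective q) (h : Function.Injective ((LinearMap.ker p).subtype.lTensor N)) :
    Function.Injective ((LinearMap.ker q).subtype.rTensor M) := by
  rw [injective_iff_map_eq_zero]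
  intro x hx
  obtain ⟨x', rfl⟩ := LinearMap.lTensor_surjective _ hp x
  have h1 : p.lTensor F ((LinearMap.ker q).subtype.rTensor P x') = 0 := by
    rw [← LinearMap.comp_apply, LinearMap.lTensor_comp_rTensor, ← LinearMap.rTensor_comp_lTensor,
      LinearMap.comp_apply, hx]
  obtain ⟨z, hz⟩ := (lTensor_exact F (LinearMap.exact_subtype_ker_map p) hp _).1 h1
  have h2 : q.rTensor (LinearMap.ker p) z = 0 := by
    apply h
    rw [map_zero, ← LinearMap.comp_apply, LinearMap.lTensor_comp_rTensor,
      ← LinearMap.rTensor_comp_lTensor, LinearMap.comp_apply, hz, ← LinearMap.comp_apply,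
      ← LinearMap.rTensor_comp, LinearMap.comp_ker_subtype, LinearMap.rTensor_zero,
      LinearMap.zero_apply]
  obtain ⟨w, rfl⟩ := (rTensor_exact (LinearMap.ker p) (LinearMap.exact_subtype_ker_map q) hq _).1 h2
  have h3 : x' = (LinearMap.ker p).subtype.lTensor _ w := by
    apply Module.Flat.rTensor_preserves_injective_linearMap (M := P) _ (LinearMap.ker q).injective_subtype
    rw [← hz, ← LinearMap.comp_apply, LinearMap.lTensor_comp_rTensor, ← LinearMap.rTensor_comp_lTensor,
      LinearMap.comp_apply]
  rw [h3, ← LinearMap.comp_apply, ← LinearMap.lTensor_comp, LinearMap.comp_ker_subtype,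
    LinearMap.lTensor_zero, LinearMap.zero_apply]

/-- The balanced form of the injectivity criterion. -/
theorem balance_rTensor_injective_iff_lTensor_injective {M N P F : Type*} [AddCommGroup M] [Module A M]
    [AddCommGroup N] [Module A N] [AddCommGroup P] [Module A P] [AddCommGroup F] [Module A F]
    [Module.Flat A P] [Module.Flat A F] (p : P →ₗ[A] M) (hp : Function.Surjective p) (q : F →ₗ[A] N)
    (hq : Function.Surjective q) :
    Function.Injective ((LinearMap.ker q).subtype.rTensor M) ↔
      Function.Injective ((LinearMap.ker p).subtype.lTensor N) := by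
  refine ⟨fun h => ?_, balance_rTensor_injective_of_lTensor_injective p hp q hq⟩
  exact (LinearMap.lTensor_inj_iff_rTensor_inj N _).2
    (balance_rTensor_injective_of_lTensor_injective q hq p hp ((LinearMap.lTensor_inj_iff_rTensor_inj M _).2 h))

/-- The map `M → M ⊗ A/J` kills exactly `J M`. -/
theorem tmul_one_eq_zero_iff {M : Type v} [AddCommGroup M] [Module A M] (J : Ideal A) (x : M) :
    x ⊗ₜ[A] (1 : A ⧸ J) = 0 ↔ x ∈ (J • ⊤ : Submodule A M) := by
  rw [← (tensorQuotEquivQuotSMul M J).map_eq_zero_iff, ← map_one (Ideal.Quotient.mk J)]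
  simp [tensorQuotEquivQuotSMul]

theorem exists_tmul_one {M : Type v} [AddCommGroup M] [Module A M] (J : Ideal A) (t : M ⊗[A] (A ⧸ J)) :
    ∃ x : M, t = x ⊗ₜ[A] (1 : A ⧸ J) := by
  induction t with
  | zero => exact ⟨0, by simp⟩
  | tmul m a =>
    obtain ⟨a, rfl⟩ := Ideal.Quotient.mk_surjective a
    exact ⟨a • m, by rw [TensorProduct.smul_tmul, Algebra.smul_def, mul_one]; rfl⟩
  | add s t hs ht =>
    obtain ⟨x, rfl⟩ := hs
    obtain ⟨y, rfl⟩ := ht
    exact ⟨x + y, (TensorProduct.add_tmul x y _).symm⟩

/-- For a flat module, `(J M : a) = (J : a) M`. -/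
theorem mem_colon_smul {M : Type v} [AddCommGroup M] [Module A M] [Module.Flat A M] (J : Ideal A) (a : A) (x : M)
    (h : a • x ∈ (J • ⊤ : Submodule A M)) :
    x ∈ ((LinearMap.ker (LinearMap.toSpanSingleton A (A ⧸ J) (Ideal.Quotient.mk J a))) • ⊤ : Submodule A M) := by
  let φ := LinearMap.toSpanSingleton A (A ⧸ J) (Ideal.Quotient.mk J a)
  let ψ : (A ⧸ LinearMap.ker φ) →ₗ[A] A ⧸ J := (LinearMap.ker φ).liftQ φ le_rfl
  have hψ : Function.Injective ψ :=
    LinearMap.ker_eq_bot.1 (Submodule.ker_liftQ_eq_bot' _ φ rfl)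
  rw [← tmul_one_eq_zero_iff] at h ⊢
  apply Module.Flat.lTensor_preserves_injective_linearMap (M := M) ψ hψ
  rw [map_zero, LinearMap.lTensor_tmul, ← h, TensorProduct.smul_tmul]
  congr 1
  show φ 1 = a • (1 : A ⧸ J)
  rw [LinearMap.toSpanSingleton_apply, one_smul, Algebra.smul_def, mul_one]
  rfl

/-- The cokernel of an endomorphism of a flat module, injective modulo every ideal, is flat. -/
theorem flat_quotient_range {M : Type v} [AddCommGroup M] [Module A M] [Module.Flat A M] (f : M →ₗ[A] M)
    (h : ∀ (J : Ideal A) (x : M), f x ∈ (J • ⊤ : Submodule A M) → x ∈ (J • ⊤ : Submodule A M)) :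
    Module.Flat A (M ⧸ LinearMap.range f) := by
  refine Module.Flat.iff_rTensor_injective'.2 fun J => ?_
  let p : A →ₗ[A] A ⧸ J := Submodule.mkQ J
  let q : M →ₗ[A] M ⧸ LinearMap.range f := (LinearMap.range f).mkQ
  have hJ : LinearMap.ker p = J := Submodule.ker_mkQ J
  have key : Function.Injective ((LinearMap.ker q).subtype.rTensor (A ⧸ J)) := by
    rw [injective_iff_map_eq_zero]
    intro t ht
    obtain ⟨⟨z, hz⟩, rfl⟩ := exists_tmul_one J t
    have hz' : z ∈ LinearMap.range f := by rwa [Submodule.ker_mkQ] at hz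
    obtain ⟨g, rfl⟩ := hz'
    rw [LinearMap.rTensor_tmul, tmul_one_eq_zero_iff] at ht
    have hg := h J g ht
    let r : M →ₗ[A] LinearMap.ker q := f.codRestrict _ fun y => by rw [Submodule.ker_mkQ]; exact ⟨y, rfl⟩
    have := Submodule.mem_map_of_mem (f := r) hg
    rw [Submodule.map_smul''] at this
    exact (tmul_one_eq_zero_iff J _).2 (Submodule.smul_mono le_rfl le_top this)
  have h2 := (balance_rTensor_injective_iff_lTensor_injective p (Submodule.mkQ_surjective _) q
    (Submodule.mkQ_surjective _)).1 key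
  rw [LinearMap.lTensor_inj_iff_rTensor_inj] at h2
  exact hJ ▸ h2

section Artinian

variable [IsArtinianRing A] [IsLocalRing A]

/-- A proper ideal has an element outside it killed by the maximal ideal modulo it. -/
theorem exists_socle (J : Ideal A) (hJ : J ≠ ⊤) :
    ∃ a : A, a ∉ J ∧ ∀ b ∈ IsLocalRing.maximalIdeal A, b * a ∈ J := by
  classical
  have hnil : ∃ n : ℕ, IsLocalRing.maximalIdeal A ^ n ≤ J := by
    obtain ⟨n, hn⟩ := IsArtinianRing.isNilpotent_jacobson_bot (R := A)
    rw [IsLocalRing.jacobson_eq_maximalIdeal ⊥ bot_ne_top] at hn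
    exact ⟨n, by rw [hn]; exact bot_le⟩
  have h0 := Nat.find_spec hnil
  cases hk : Nat.find hnil with
  | zero => rw [hk, pow_zero, Ideal.one_eq_top, top_le_iff] at h0; exact absurd h0 hJ
  | succ k =>
    obtain ⟨a, ha, haJ⟩ := SetLike.not_le_iff_exists.1 (Nat.find_min hnil (by omega : k < Nat.find hnil))
    exact ⟨a, haJ, fun b hb => h0 (by rw [hk, pow_succ']; exact Ideal.mul_mem_mul hb ha)⟩

/-- Injectivity modulo a proper ideal is injectivity modulo the maximal ideal. -/
theorem regular_iff {M : Type v} [AddCommGroup M] [Module A M] [Module.Flat A M] (f : M →ₗ[A] M) (J : Ideal A)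
    (hJ : J ≠ ⊤) :
    (∀ x, f x ∈ (J • ⊤ : Submodule A M) → x ∈ (J • ⊤ : Submodule A M)) ↔
      ∀ x, f x ∈ (IsLocalRing.maximalIdeal A • ⊤ : Submodule A M) → x ∈ (IsLocalRing.maximalIdeal A • ⊤ : Submodule A M) := by
  have colon : ∀ (J : Ideal A) (a : A), a ∉ J → (∀ b ∈ IsLocalRing.maximalIdeal A, b * a ∈ J) →
      LinearMap.ker (LinearMap.toSpanSingleton A (A ⧸ J) (Ideal.Quotient.mk J a)) = IsLocalRing.maximalIdeal A := by
    intro J a ha hab
    refine le_antisymm ?_ fun b hb => ?_
    · refine IsLocalRing.le_maximalIdeal fun e => ha ?_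
      have : (1 : A) ∈ LinearMap.ker (LinearMap.toSpanSingleton A (A ⧸ J) (Ideal.Quotient.mk J a)) := e ▸ Submodule.mem_top
      rw [LinearMap.mem_ker, LinearMap.toSpanSingleton_apply, one_smul] at this
      exact Ideal.Quotient.eq_zero_iff_mem.1 this
    · rw [LinearMap.mem_ker, LinearMap.toSpanSingleton_apply, Algebra.smul_def]
      exact Ideal.Quotient.eq_zero_iff_mem.2 (hab b hb)
  have smul_mem : ∀ (J : Ideal A) (a : A), (∀ b ∈ IsLocalRing.maximalIdeal A, b * a ∈ J) → ∀ y : M,
      y ∈ (IsLocalRing.maximalIdeal A • ⊤ : Submodule A M) → a • y ∈ (J • ⊤ : Submodule A M) := by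
    intro J a hab y hy
    induction hy using Submodule.smul_induction_on' with
    | smul b hb z hz => rw [smul_smul, mul_comm]; exact Submodule.smul_mem_smul (hab b hb) Submodule.mem_top
    | add y _ z _ hy hz => rw [smul_add]; exact add_mem hy hz
  constructor
  · intro h x hx
    obtain ⟨a, ha, hab⟩ := exists_socle J hJ
    have h2 := mem_colon_smul J a x (h _ (by rw [map_smul]; exact smul_mem J a hab _ hx))
    rwa [colon J a ha hab] at h2
  · intro h
    clear hJ
    induction J using WellFoundedGT.induction with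
    | ind J ih =>
      intro x hx
      by_cases hJ : J = ⊤
      · simp [hJ]
      obtain ⟨a, ha, hab⟩ := exists_socle J hJ
      have hlt : J < J ⊔ Ideal.span {a} := left_lt_sup.2 fun e => ha ((Ideal.span_singleton_le_iff_mem J).1 e)
      have h1 := ih _ hlt x (Submodule.smul_mono le_sup_left le_rfl hx)
      rw [Submodule.sup_smul, Submodule.mem_sup] at h1
      obtain ⟨j, hj, z, hz, rfl⟩ := h1
      rw [Submodule.ideal_span_singleton_smul] at hz
      obtain ⟨y, -, rfl⟩ := hz
      refine add_mem hj (smul_mem J a hab y (h y ?_))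
      have hfj : f j ∈ (J • ⊤ : Submodule A M) := by
        have := Submodule.mem_map_of_mem (f := f) hj
        rw [Submodule.map_smul''] at this
        exact Submodule.smul_mono le_rfl le_top this
      rw [map_add] at hx
      have h3 : a • f y ∈ (J • ⊤ : Submodule A M) := by
        have := (Submodule.add_mem_iff_right _ hfj).1 hx
        simpa using this
      have h4 := mem_colon_smul J a (f y) h3
      rwa [colon J a ha hab] at h4

/-- An endomorphism injective modulo the maximal ideal has flat cokernel. -/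
theorem flat_of_regular {M : Type v} [AddCommGroup M] [Module A M] [Module.Flat A M] (f : M →ₗ[A] M)
    (h : ∀ x, f x ∈ (IsLocalRing.maximalIdeal A • ⊤ : Submodule A M) → x ∈ (IsLocalRing.maximalIdeal A • ⊤ : Submodule A M)) :
    Module.Flat A (M ⧸ LinearMap.range f) := by
  refine flat_quotient_range f fun J x hx => ?_
  by_cases hJ : J = ⊤
  · simp [hJ]
  · exact (regular_iff f J hJ).2 h x hx

end Artinian

end Groth.Agent.ArtFlat
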