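import Groth.Agent.ArtFlat.Regular

/-!
Regular sequences in flat algebras over an Artinian local ring.
-/

universe u v

namespace Groth.Agent.ArtFlat

variable {A : Type u} {S : Type v} [CommRing A] [IsArtinianRing A] [IsLocalRing A] [CommRing S] [Algebra A S]

/-- `rs` is regular modulo `J`. -/
def Chain (rs : List S) (J : Ideal A) : Prop :=
  ∀ (k : ℕ) (hk : k < rs.length), ∀ x, rs[k] * x ∈ Ideal.ofList (rs.take k) ⊔ J.map (algebraMap A S) →
    x ∈ Ideal.ofList (rs.take k) ⊔ J.map (algebraMap A S)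

omit [IsArtinianRing A] [IsLocalRing A] in
theorem mk_mem_smul_iff (K : Ideal S) (J : Ideal A) (x : S) :
    Ideal.Quotient.mk K x ∈ (J • ⊤ : Submodule A (S ⧸ K)) ↔ x ∈ K ⊔ J.map (algebraMap A S) := by
  rw [Ideal.smul_top_eq_map, Submodule.restrictScalars_mem, IsScalarTower.algebraMap_eq A S (S ⧸ K), ← Ideal.map_map,
    ← Ideal.mem_comap, Ideal.Quotient.algebraMap_eq,
    Ideal.comap_map_of_surjective _ Ideal.Quotient.mk_surjective, ← RingHom.ker_eq_comap_bot, Ideal.mk_ker, sup_comm]

omit [IsArtinianRing A] [IsLocalRing A] in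
theorem mulLeft_mk (K : Ideal S) (r x : S) :
    LinearMap.mulLeft A (Ideal.Quotient.mk K r) (Ideal.Quotient.mk K x) = Ideal.Quotient.mk K (r * x) := by
  simp

/-- Along a sequence regular modulo a proper ideal, all quotients are flat. -/
theorem flat_of_chain [Module.Flat A S] (rs : List S) (J : Ideal A) (hJ : J ≠ ⊤) (h : Chain rs J) :
    ∀ k, k ≤ rs.length → Module.Flat A (S ⧸ Ideal.ofList (rs.take k)) := by
  intro k
  induction k with
  | zero =>
    intro _
    exact Module.Flat.of_linearEquiv ((Submodule.quotEquivOfEqBot _ (by simp)).restrictScalars A)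
  | succ k ih =>
    intro hk
    haveI := ih (by omega)
    have hlt : k < rs.length := hk
    let K := Ideal.ofList (rs.take k)
    let f : (S ⧸ K) →ₗ[A] S ⧸ K := LinearMap.mulLeft A (Ideal.Quotient.mk K rs[k])
    have hreg := (regular_iff f J hJ).1 fun y hy => by
      obtain ⟨x, rfl⟩ := Ideal.Quotient.mk_surjective y
      rw [mulLeft_mk, mk_mem_smul_iff] at hy
      exact (mk_mem_smul_iff K J x).2 (h k hlt x hy)
    haveI := flat_of_regular f hreg
    have hsucc : Ideal.ofList (rs.take (k + 1)) = K ⊔ Ideal.span {rs[k]} := by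
      rw [List.take_succ_eq_append_getElem hlt, Ideal.ofList_append, Ideal.ofList_singleton]
    let q : (S ⧸ K) →ₗ[A] S ⧸ Ideal.ofList (rs.take (k + 1)) :=
      (Ideal.Quotient.factorₐ A (hsucc ▸ le_sup_left : K ≤ Ideal.ofList (rs.take (k + 1)))).toLinearMap
    have hq : Function.Surjective q := fun y => by
      obtain ⟨x, rfl⟩ := Ideal.Quotient.mk_surjective y
      exact ⟨Ideal.Quotient.mk K x, rfl⟩
    have hker : LinearMap.ker q = LinearMap.range f := by
      ext y
      obtain ⟨x, rfl⟩ := Ideal.Quotient.mk_surjective y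
      show Ideal.Quotient.mk (Ideal.ofList (rs.take (k + 1))) x = 0 ↔ _
      rw [Ideal.Quotient.eq_zero_iff_mem, hsucc, Submodule.mem_sup]
      constructor
      · rintro ⟨a, ha, b, hb, rfl⟩
        obtain ⟨c, rfl⟩ := Ideal.mem_span_singleton'.1 hb
        refine ⟨Ideal.Quotient.mk K c, ?_⟩
        rw [mulLeft_mk, map_add, Ideal.Quotient.eq_zero_iff_mem.2 ha, zero_add, mul_comm]
      · rintro ⟨z, hz⟩
        obtain ⟨c, rfl⟩ := Ideal.Quotient.mk_surjective z
        rw [mulLeft_mk, Ideal.Quotient.eq] at hz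
        exact ⟨x - c * rs[k], by rw [← neg_sub, neg_mem_iff, mul_comm]; exact hz, c * rs[k],
          Ideal.mem_span_singleton'.2 ⟨c, rfl⟩, by ring⟩
    exact Module.Flat.of_linearEquiv ((Submodule.quotEquivOfEq _ _ hker.symm).trans (q.quotKerEquivOfSurjective hq)).symm

/-- Regularity of a sequence can be tested modulo any proper ideal of the base. -/
theorem chain_iff [Module.Flat A S] (rs : List S) (J J' : Ideal A) (hJ : J ≠ ⊤) (hJ' : J' ≠ ⊤) :
    Chain rs J ↔ Chain rs J' := by
  suffices key : ∀ J J' : Ideal A, J ≠ ⊤ → J' ≠ ⊤ → Chain rs J → Chain rs J' from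
    ⟨key J J' hJ hJ', key J' J hJ' hJ⟩
  intro J J' hJ hJ' h k hk x hx
  haveI := flat_of_chain rs J hJ h k hk.le
  let K := Ideal.ofList (rs.take k)
  let f : (S ⧸ K) →ₗ[A] S ⧸ K := LinearMap.mulLeft A (Ideal.Quotient.mk K rs[k])
  have hreg := (regular_iff f J hJ).1 fun y hy => by
    obtain ⟨z, rfl⟩ := Ideal.Quotient.mk_surjective y
    rw [mulLeft_mk, mk_mem_smul_iff] at hy
    exact (mk_mem_smul_iff K J z).2 (h k hk z hy)
  rw [← mk_mem_smul_iff] at hx ⊢
  exact (regular_iff f J' hJ').2 hreg (Ideal.Quotient.mk K x) (by rw [mulLeft_mk]; exact hx)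

omit [IsArtinianRing A] [IsLocalRing A] in
/-- Weak regularity on `S ⧸ J S` in element form. -/
theorem isWeaklyRegular_quotient_iff (rs : List S) (J : Ideal A) :
    RingTheory.Sequence.IsWeaklyRegular (S ⧸ J.map (algebraMap A S)) (rs.map (algebraMap S (S ⧸ J.map (algebraMap A S)))) ↔
      Chain rs J := by
  rw [RingTheory.Sequence.isWeaklyRegular_map_algebraMap_iff, RingTheory.Sequence.isWeaklyRegular_iff]
  refine forall_congr' fun k => forall_congr' fun hk => ?_
  rw [isSMulRegular_quotient_iff_mem_of_smul_mem]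
  have hm : ∀ x, (Ideal.Quotient.mk (J.map (algebraMap A S)) x : S ⧸ J.map (algebraMap A S)) ∈
      (Ideal.ofList (rs.take k) • ⊤ : Submodule S (S ⧸ J.map (algebraMap A S))) ↔
      x ∈ Ideal.ofList (rs.take k) ⊔ J.map (algebraMap A S) := fun x => by
    rw [Ideal.smul_top_eq_map, Submodule.restrictScalars_mem, ← Ideal.mem_comap, Ideal.Quotient.algebraMap_eq,
      Ideal.comap_map_of_surjective _ Ideal.Quotient.mk_surjective, ← RingHom.ker_eq_comap_bot, Ideal.mk_ker]
  refine ⟨fun h x hx => (hm x).1 (h _ ((hm _).2 hx)), fun h y hy => ?_⟩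
  obtain ⟨x, rfl⟩ := Ideal.Quotient.mk_surjective y
  exact (hm x).2 (h x ((hm _).1 hy))

omit [IsArtinianRing A] [IsLocalRing A] in
/-- Weak regularity on `S` in element form. -/
theorem isWeaklyRegular_iff_chain_bot (rs : List S) :
    RingTheory.Sequence.IsWeaklyRegular S rs ↔ Chain rs (⊥ : Ideal A) := by
  rw [RingTheory.Sequence.isWeaklyRegular_iff]
  refine forall_congr' fun k => forall_congr' fun hk => ?_
  rw [isSMulRegular_quotient_iff_mem_of_smul_mem]
  simp

/-- In an Artinian local ring a proper ideal extends to ideals of nilpotent elements. -/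
theorem le_radical_bot (I : Ideal A) (hI : I ≠ ⊤) : I.map (algebraMap A S) ≤ (⊥ : Ideal S).radical := by
  rw [Ideal.map_le_iff_le_comap]
  intro a ha
  obtain ⟨n, hn⟩ := IsArtinianRing.isNilpotent_jacobson_bot (R := A)
  rw [IsLocalRing.jacobson_eq_maximalIdeal ⊥ bot_ne_top] at hn
  refine ⟨n, ?_⟩
  have : a ^ n ∈ IsLocalRing.maximalIdeal A ^ n := Ideal.pow_mem_pow (IsLocalRing.le_maximalIdeal hI ha) n
  rw [hn] at this
  rw [← map_pow, (Submodule.mem_bot A).1 this, map_zero]
  exact Submodule.zero_mem _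

end Groth.Agent.ArtFlat
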